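import Groth.Agent.CAlg9.Approx.Laurent
import Groth.Agent.Hens22.PairHens
import Mathlib.RingTheory.Idempotents
import Mathlib.RingTheory.AdicCompletion.Completeness

/-!
The henselization of `(R[X], (X))` and its punctured completion `R((X))`; idempotents of `R((X))`.
-/

set_option autoImplicit false
universe u

open Polynomial

namespace Groth.Agent.CAlg9.Approx

variable (R : Type u) [CommRing R] (B : Type u) [CommRing B] [Algebra R[X] B]

theorem exists_toPowerSeries
    (hB : Hens2.IsPairHenselization R[X] (Ideal.span {(X : R[X])}) B) :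
    ∃ ψ : B →+* PowerSeries R, ∀ p : R[X], ψ (algebraMap R[X] B p) = (p : PowerSeries R) := by
  obtain ⟨g, hg, -⟩ := hB.2 (PowerSeries R) (Ideal.span {PowerSeries.X})
    Polynomial.coeToPowerSeries.ringHom inferInstance (by
      rw [Ideal.map_span, Set.image_singleton, Polynomial.coeToPowerSeries.ringHom_apply, Polynomial.coe_X])
  exact ⟨g, fun p => RingHom.congr_fun hg p⟩

theorem isApprox_pairHens (hB : Hens2.IsPairHenselization R[X] (Ideal.span {(X : R[X])}) B)
    [Algebra B (PowerSeries R)]
    (hψ : ∀ p : R[X], algebraMap B (PowerSeries R) (algebraMap R[X] B p) = (p : PowerSeries R)) :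
    IsApprox (algebraMap R[X] B X) (PowerSeries R) := by
  refine isApprox_powerSeries _ (algebraMap R[X] B) hψ ((hψ X).trans Polynomial.coe_X) fun m a h => ?_
  obtain ⟨p, hp⟩ := (Hens22.quotientMap_pow_bijective hB m).2 (Ideal.Quotient.mk _ a)
  obtain ⟨p, rfl⟩ := Ideal.Quotient.mk_surjective p
  rw [Ideal.quotientMap_mk, Ideal.Quotient.eq, Ideal.span_singleton_pow, Ideal.map_span,
    Set.image_singleton, map_pow, Ideal.mem_span_singleton] at hp
  obtain ⟨z, hz⟩ := hp
  have hz' := congrArg (algebraMap B (PowerSeries R)) hz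
  rw [map_sub, map_mul, map_pow, hψ, hψ, Polynomial.coe_X] at hz'
  obtain ⟨p', rfl⟩ : (X : R[X]) ^ m ∣ p := by
    rw [Polynomial.X_pow_dvd_iff]
    intro d hd
    rw [← Polynomial.coeff_coe, sub_eq_iff_eq_add.1 hz']
    exact (PowerSeries.X_pow_dvd_iff.1 (dvd_add (dvd_mul_right _ _) h)) d hd
  rw [map_mul, map_pow] at hz
  exact ⟨algebraMap R[X] B p' - z, by linear_combination -hz⟩

/-- a Laurent series with nilpotent coefficients is `1` minus a unit -/
theorem isUnit_one_sub_of_coeff (x : LaurentSeries R) (hx : ∀ k, IsNilpotent (x.coeff k)) :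
    IsUnit (1 - x) := by
  classical
  obtain ⟨n, p, hp⟩ : ∃ (n : ℕ) (p : PowerSeries R), HahnSeries.single (n : ℤ) (1 : R) * x =
      HahnSeries.ofPowerSeries ℤ R p := by
    refine ⟨(-x.order).toNat, PowerSeries.mk fun i => x.coeff ((i : ℤ) - (-x.order).toNat), ?_⟩
    ext k
    rw [HahnSeries.coeff_single_mul, one_mul, PowerSeries.coeff_coe]
    split_ifs with hk
    · exact HahnSeries.coeff_eq_zero_of_lt_order (by omega)
    · rw [PowerSeries.coeff_mk]; congr 1; omega
  -- split `p` into a polynomial and a multiple of a power series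
  have hp' : ∀ i, IsNilpotent (PowerSeries.coeff i p) := fun i => by
    have := congrArg (fun z : LaurentSeries R => z.coeff (i : ℤ)) hp
    simp only [HahnSeries.coeff_single_mul, one_mul, HahnSeries.ofPowerSeries_apply_coeff] at this
    rw [← this]; exact hx _
  obtain ⟨q, hq⟩ : (PowerSeries.X : PowerSeries R) ^ n ∣ p - (p.trunc n : PowerSeries R) := by
    rw [PowerSeries.X_pow_dvd_iff]
    intro d hd
    rw [map_sub, Polynomial.coeff_coe, PowerSeries.coeff_trunc, if_pos hd, sub_self]
  have htr : IsNilpotent (p.trunc n) := by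
    rw [Polynomial.isNilpotent_iff]
    intro i
    rw [PowerSeries.coeff_trunc]
    split_ifs
    · exact hp' i
    · exact IsNilpotent.zero
  have hq0 : IsNilpotent (PowerSeries.constantCoeff q) := by
    have := congrArg (PowerSeries.coeff n) hq
    rw [map_sub, Polynomial.coeff_coe, PowerSeries.coeff_trunc, if_neg (lt_irrefl n), sub_zero,
      PowerSeries.coeff_X_pow_mul', if_pos le_rfl, Nat.sub_self] at this
    rw [← PowerSeries.coeff_zero_eq_constantCoeff_apply, ← this]
    exact hp' n
  have hu : IsUnit (1 - q) := by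
    rw [PowerSeries.isUnit_iff_constantCoeff, map_sub, map_one]
    exact hq0.isUnit_one_sub
  have hsplit : x = HahnSeries.single (-(n : ℤ)) (1 : R) *
      (HahnSeries.ofPowerSeries ℤ R (p.trunc n : PowerSeries R)) + HahnSeries.ofPowerSeries ℤ R q := by
    have h1 : HahnSeries.single (-(n : ℤ)) (1 : R) * (HahnSeries.single (n : ℤ) (1 : R) * x) = x := by
      rw [← mul_assoc, HahnSeries.single_mul_single, neg_add_cancel, one_mul, HahnSeries.single_zero_one, one_mul]
    conv_lhs => rw [← h1, hp, show p = (p.trunc n : PowerSeries R) + PowerSeries.X ^ n * q by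
      rw [← hq, add_sub_cancel]]
    rw [map_add, map_mul, HahnSeries.ofPowerSeries_X_pow, mul_add, ← mul_assoc,
      HahnSeries.single_mul_single, neg_add_cancel, one_mul, HahnSeries.single_zero_one, one_mul]
  rw [hsplit, show ∀ a b : LaurentSeries R, 1 - (a + b) = (1 - b) - a from fun a b => by ring, ← map_one (HahnSeries.ofPowerSeries ℤ R), ← map_sub]
  have hnil : IsNilpotent (HahnSeries.single (-(n : ℤ)) (1 : R) *
      (HahnSeries.ofPowerSeries ℤ R (p.trunc n : PowerSeries R))) :=
    Commute.isNilpotent_mul_left (Commute.all _ _)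
      ((htr.map (Polynomial.coeToPowerSeries.ringHom)).map (HahnSeries.ofPowerSeries ℤ R))
  rw [sub_eq_add_neg]
  exact hnil.neg.isUnit_add_left_of_commute (hu.map _) (Commute.all _ _)

/-- idempotents of `R((X))` are constants -/
theorem exists_idempotent_laurentSeries {e : LaurentSeries R} (he : IsIdempotentElem e) :
    ∃ r : R, IsIdempotentElem r ∧ e = HahnSeries.C r := by
  classical
  have hprime : ∀ (P : Ideal R) [P.IsPrime], (∀ k, k ≠ 0 → e.coeff k ∈ P) ∧
      (e.coeff 0 * e.coeff 0 - e.coeff 0 ∈ P) := by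
    intro P _
    let π := Ideal.Quotient.mk P
    let e' : LaurentSeries (R ⧸ P) := e.map π
    have he' : e' * e' = e' := by
      ext k
      have := congrArg (fun z : LaurentSeries _ => z.coeff k)
        (HahnSeries.map_mul (x := e) (y := e) (π : R →ₙ+* R ⧸ P))
      simp only [he.eq] at this
      exact this.symm
    rcases IsIdempotentElem.iff_eq_zero_or_one.1 (show IsIdempotentElem e' from he') with h | h
    · have hk : ∀ k, π (e.coeff k) = 0 := fun k => congrArg (fun z : LaurentSeries _ => z.coeff k) h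
      exact ⟨fun k _ => Ideal.Quotient.eq_zero_iff_mem.1 (hk k), Ideal.Quotient.eq.1 (by
        show π _ = π _
        rw [map_mul, hk 0, mul_zero])⟩
    · have hk : ∀ k : ℤ, π (e.coeff k) = if k = 0 then 1 else 0 := fun k => by
        refine (congrArg (fun z : LaurentSeries _ => z.coeff k) h).trans ?_
        simp [HahnSeries.coeff_one]
      exact ⟨fun k hk0 => Ideal.Quotient.eq_zero_iff_mem.1 (by rw [hk, if_neg hk0]),
        Ideal.Quotient.eq.1 (by
          show π _ = π _
          rw [map_mul, hk 0, if_pos rfl, mul_one])⟩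
  obtain ⟨r, hr, hre⟩ := exists_isIdempotentElem_eq_of_ker_isNilpotent
    (Ideal.Quotient.mk (nilradical R)) (fun x hx => by
      rwa [Ideal.mk_ker, mem_nilradical] at hx) (Ideal.Quotient.mk (nilradical R) (e.coeff 0))
    ⟨_, rfl⟩ (by
      show _ * _ = _
      rw [← map_mul]
      refine Ideal.Quotient.eq.2 ?_
      rw [nilradical_eq_sInf, Ideal.mem_sInf]
      exact fun {P} hP => (@hprime P hP).2)
  refine ⟨r, hr, ?_⟩
  have hd : ∀ (P : Ideal R) [P.IsPrime] k, (e - HahnSeries.C r).coeff k ∈ P := by
    intro P _ k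
    rw [HahnSeries.coeff_sub, HahnSeries.C_apply, HahnSeries.coeff_single]
    split_ifs with h
    · subst h
      have := Ideal.Quotient.eq.1 hre.symm
      rw [nilradical_eq_sInf, Ideal.mem_sInf] at this
      exact this (by assumption)
    · rw [sub_zero]; exact (hprime P).1 k h
  have hd2 : ∀ k, IsNilpotent (((e - HahnSeries.C r) * (e - HahnSeries.C r)).coeff k) := fun k => by
    rw [← mem_nilradical, nilradical_eq_sInf, Ideal.mem_sInf]
    intro P hP
    have := @hd P hP
    rw [HahnSeries.coeff_mul]
    exact sum_mem fun x _ => Ideal.mul_mem_right _ _ (this _)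
  have hu := isUnit_one_sub_of_coeff R _ hd2
  have h3 : (e - HahnSeries.C r) * (1 - (e - HahnSeries.C r) * (e - HahnSeries.C r)) = 0 := by
    have hr' : IsIdempotentElem (HahnSeries.C r : LaurentSeries R) := hr.map HahnSeries.C
    linear_combination (-(e + 1) + 3 * HahnSeries.C r) * he.eq +
      ((HahnSeries.C r + 1) - 3 * e) * hr'.eq
  exact sub_eq_zero.1 (hu.mul_left_eq_zero.1 h3)

end Groth.Agent.CAlg9.Approx
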