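import Groth.Agent.CAlg9.Approx.Basic
import Mathlib.LinearAlgebra.Matrix.ToLin
import Mathlib.LinearAlgebra.TensorProduct.Pi
import Mathlib.RingTheory.Finiteness.Projective
import Mathlib.Algebra.Module.Projective
import Mathlib.RingTheory.TensorProduct.Finite

/-!
Finite projective modules over `A[1/t]` and over the punctured completion `A'[1/t]`.
-/

set_option autoImplicit false
universe u v w

open TensorProduct

namespace Groth.Agent.CAlg9.Approx

section Lin

variable {L : Type u} [CommRing L] {L' : Type v} [CommRing L'] [Algebra L L']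

/-- the base change of a linear map between standard free modules has the image matrix -/
theorem piScalarRight_comp_baseChange {n m : Type} [Fintype n] [DecidableEq n] [Fintype m]
    [DecidableEq m] (g : (n → L) →ₗ[L] (m → L)) (z : L' ⊗[L] (n → L)) :
    TensorProduct.piScalarRight L L' L' m (g.baseChange L' z) =
      Matrix.toLin' ((LinearMap.toMatrix' g).map (algebraMap L L'))
        (TensorProduct.piScalarRight L L' L' n z) := by
  induction z using TensorProduct.induction_on with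
  | zero => simp
  | tmul a v =>
    ext i
    rw [LinearMap.baseChange_tmul]
    conv_lhs => rw [← Matrix.toLin'_toMatrix' g]
    simp only [TensorProduct.piScalarRight_apply, TensorProduct.piScalarRightHom_tmul,
      Matrix.toLin'_apply, Matrix.mulVec, dotProduct, Matrix.map_apply, Algebra.smul_def, map_sum,
      Finset.sum_mul, map_mul]
    refine Finset.sum_congr rfl fun j _ => ?_
    ring
  | add x y hx hy => rw [map_add, map_add, map_add, map_add, hx, hy]

theorem map_toMatrix'_comp {n m l : Type} [Fintype n] [DecidableEq n] [Fintype m] [DecidableEq m]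
    [Fintype l] [DecidableEq l] (g : (m → L) →ₗ[L] (l → L)) (g' : (n → L) →ₗ[L] (m → L)) :
    (LinearMap.toMatrix' (g ∘ₗ g')).map (algebraMap L L') =
      (LinearMap.toMatrix' g).map (algebraMap L L') * (LinearMap.toMatrix' g').map (algebraMap L L') := by
  rw [LinearMap.toMatrix'_comp, Matrix.map_mul]

/-- two retracts whose idempotents are conjugate are isomorphic -/
theorem nonempty_equiv_of_conj {R : Type u} [CommRing R] {M₁ M₂ F : Type*} [AddCommGroup M₁]
    [Module R M₁] [AddCommGroup M₂] [Module R M₂] [AddCommGroup F] [Module R F]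
    (i₁ : M₁ →ₗ[R] F) (π₁ : F →ₗ[R] M₁) (h₁ : ∀ x, π₁ (i₁ x) = x)
    (i₂ : M₂ →ₗ[R] F) (π₂ : F →ₗ[R] M₂) (h₂ : ∀ x, π₂ (i₂ x) = x)
    (u : F ≃ₗ[R] F) (hu : ∀ x, u (i₁ (π₁ x)) = i₂ (π₂ (u x))) : Nonempty (M₁ ≃ₗ[R] M₂) := by
  have hu' : ∀ y, i₁ (π₁ (u.symm y)) = u.symm (i₂ (π₂ y)) := fun y => by
    apply u.injective
    rw [hu, u.apply_symm_apply, u.apply_symm_apply]
  refine ⟨LinearEquiv.ofLinearMap (π₂ ∘ₗ u.toLinearMap ∘ₗ i₁) (π₁ ∘ₗ u.symm.toLinearMap ∘ₗ i₂)
    (LinearMap.ext fun y => ?_) (LinearMap.ext fun x => ?_)⟩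
  · simp only [LinearMap.comp_apply, LinearEquiv.coe_coe, LinearMap.id_coe, id_eq]
    rw [hu', LinearEquiv.apply_symm_apply, h₂, h₂]
  · simp only [LinearMap.comp_apply, LinearEquiv.coe_coe, LinearMap.id_coe, id_eq]
    rw [← hu, LinearEquiv.symm_apply_apply, h₁, h₁]

/-- if `i ∘ c ∘ π + (1 - i ∘ π)` is bijective then so is `c` -/
theorem bijective_of_retract {R : Type u} [CommRing R] {M F : Type*} [AddCommGroup M]
    [Module R M] [AddCommGroup F] [Module R F] (i : M →ₗ[R] F) (π : F →ₗ[R] M)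
    (h : ∀ x, π (i x) = x) (c : M →ₗ[R] M) (W : F →ₗ[R] F)
    (hW : ∀ z, W z = i (c (π z)) + (z - i (π z))) (hWb : Function.Bijective W) :
    Function.Bijective c := by
  constructor
  · intro x y hxy
    have : i x = i y := hWb.1 (by rw [hW, hW, h, h, hxy, sub_self, sub_self])
    rw [← h x, this, h]
  · intro y
    obtain ⟨z, hz⟩ := hWb.2 (i y)
    refine ⟨π z, ?_⟩
    have := congrArg π hz
    rw [hW, map_add, h, map_sub, h, sub_self, add_zero, h] at this
    exact this

end Lin

section Setup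

variable {A : Type u} [CommRing A] {t : A} {A' : Type u} [CommRing A'] [Algebra A A']
  {L : Type u} [CommRing L] [Algebra A L] [IsLocalization.Away t L]
  {L' : Type u} [CommRing L'] [Algebra A L'] [Algebra A' L'] [IsScalarTower A A' L']
  [Algebra L L'] [IsScalarTower A L L'] [IsLocalization.Away (algebraMap A A' t) L']

/-- every finite projective module over `A'[1/t]` comes from `A[1/t]` -/
theorem exists_baseChange_equiv [HenselianRing A (Ideal.span {t})] (h : IsApprox t A')
    (M' : Type u) [AddCommGroup M'] [Module L' M'] [Module.Finite L' M'] [Module.Projective L' M'] :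
    ∃ (M : Type u) (_ : AddCommGroup M) (_ : Module L M),
      Module.Finite L M ∧ Module.Projective L M ∧ Nonempty (L' ⊗[L] M ≃ₗ[L'] M') := by
  obtain ⟨n, f, g, -, -, hfg⟩ := Module.Finite.exists_comp_eq_id_of_projective L' M'
  let e : Matrix (Fin n) (Fin n) L' := LinearMap.toMatrix' (g ∘ₗ f)
  have he : IsIdempotentElem e := by
    show _ * _ = _
    rw [← LinearMap.toMatrix'_comp]
    exact congrArg _ (LinearMap.ext fun x => congrArg g (LinearMap.congr_fun hfg (f x)))
  obtain ⟨ε, hε, u, hu, hue⟩ := exists_idempotent_conj (L := L) t h e he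
  let p := Matrix.toLin' ε
  let M := LinearMap.range p
  let i : M →ₗ[L] (Fin n → L) := M.subtype
  let π : (Fin n → L) →ₗ[L] M := p.rangeRestrict
  have hπi : π ∘ₗ i = LinearMap.id := by
    refine LinearMap.ext fun x => Subtype.ext ?_
    obtain ⟨y, hy⟩ := x.2
    show p x.1 = x.1
    rw [← hy, ← LinearMap.comp_apply, ← Matrix.toLin'_mul, hε.eq]
  refine ⟨M, inferInstance, inferInstance, Module.Finite.range p, Module.Projective.of_split i π hπi, ?_⟩
  let J := TensorProduct.piScalarRight L L' L' (Fin n)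
  obtain ⟨w, hw⟩ := hu
  let U : (Fin n → L') ≃ₗ[L'] (Fin n → L') :=
    LinearEquiv.ofLinearMap (Matrix.toLin' (↑w⁻¹ : Matrix (Fin n) (Fin n) L')) (Matrix.toLin' (w : Matrix (Fin n) (Fin n) L'))
      (by rw [← Matrix.toLin'_mul, Units.inv_mul, Matrix.toLin'_one])
      (by rw [← Matrix.toLin'_mul, Units.mul_inv, Matrix.toLin'_one])
  refine nonempty_equiv_of_conj (J.toLinearMap ∘ₗ i.baseChange L') (π.baseChange L' ∘ₗ J.symm.toLinearMap)
    (fun x => ?_) g f (fun x => LinearMap.congr_fun hfg x) U (fun x => ?_)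
  · simp only [LinearMap.comp_apply, LinearEquiv.coe_coe, LinearEquiv.symm_apply_apply]
    rw [← LinearMap.comp_apply, ← LinearMap.baseChange_comp, hπi, LinearMap.baseChange_id]
    rfl
  · simp only [LinearMap.comp_apply, LinearEquiv.coe_coe]
    rw [← LinearMap.comp_apply (i.baseChange L'), ← LinearMap.baseChange_comp,
      show i ∘ₗ π = p from rfl, piScalarRight_comp_baseChange, LinearEquiv.apply_symm_apply,
      LinearMap.toMatrix'_toLin']
    show Matrix.toLin' _ (Matrix.toLin' _ x) = (g ∘ₗ f) (Matrix.toLin' _ x)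
    rw [← Matrix.toLin'_toMatrix' (g ∘ₗ f)]
    show Matrix.toLin' _ (Matrix.toLin' _ x) = Matrix.toLin' e (Matrix.toLin' _ x)
    rw [← LinearMap.comp_apply, ← LinearMap.comp_apply, ← Matrix.toLin'_mul, ← Matrix.toLin'_mul]
    congr 2
    have h2 : (↑w⁻¹ : Matrix (Fin n) (Fin n) L') * ε.map (algebraMap L L') =
        e * (↑w⁻¹ : Matrix (Fin n) (Fin n) L') := by
      rw [← hw] at hue
      calc (↑w⁻¹ : Matrix (Fin n) (Fin n) L') * ε.map (algebraMap L L')
          = (↑w⁻¹ : Matrix (Fin n) (Fin n) L') * ((algebraMap L L').mapMatrix ε * (w : Matrix (Fin n) (Fin n) L')) *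
              (↑w⁻¹ : Matrix (Fin n) (Fin n) L') := by
            rw [mul_assoc (↑w⁻¹ : Matrix (Fin n) (Fin n) L'), mul_assoc _ (w : Matrix (Fin n) (Fin n) L'),
              Units.mul_inv, mul_one]
            rfl
        _ = e * (↑w⁻¹ : Matrix (Fin n) (Fin n) L') := by rw [← hue, Units.inv_mul_cancel_left]
    exact h2

/-- approximate mutually inverse maps of retracts stay mutually inverse -/
theorem isUnit_approx (hA : t ∈ Ideal.jacobson (⊥ : Ideal A)) (h : IsApprox t A') {m n : ℕ} (k : ℕ)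
    (P : Matrix (Fin n) (Fin n) L) (Q : Matrix (Fin m) (Fin m) L)
    (H : Matrix (Fin m) (Fin n) L') (H' : Matrix (Fin n) (Fin m) L')
    (G : Matrix (Fin m) (Fin n) L) (G' : Matrix (Fin n) (Fin m) L)
    (hq : H * P.map (algebraMap L L') * H' = Q.map (algebraMap L L')) (hQQ : Q * Q = Q)
    (b1 : BdM (algebraMap A' L') (tU' t L L') (-(k : ℤ)) H)
    (b2 : BdM (algebraMap A' L') (tU' t L L') (-(k : ℤ)) H')
    (b3 : BdM (algebraMap A' L') (tU' t L L') (-(k : ℤ)) (P.map (algebraMap L L')))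
    (b4 : BdM (algebraMap A' L') (tU' t L L') (-(k : ℤ)) (Q.map (algebraMap L L')))
    (d1 : BdM (algebraMap A' L') (tU' t L L') ((4 * k + 1 : ℕ) : ℤ) (H - G.map (algebraMap L L')))
    (d2 : BdM (algebraMap A' L') (tU' t L L') ((4 * k + 1 : ℕ) : ℤ) (H' - G'.map (algebraMap L L'))) :
    IsUnit (Q * (G * P * G') * Q + (1 - Q)) := by
  have hcoe := tU'_coe (A' := A') (L := L) (L' := L') t
  generalize hN₀ : 4 * k + 1 = N₀ at d1 d2
  have hX : BdM (algebraMap A' L') (tU' t L L') 1
      ((Q * (G * P * G' - Q) * Q).map (algebraMap L L')) := by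
    have hG1 : BdM (algebraMap A' L') (tU' t L L') (-(k : ℤ)) (G.map (algebraMap L L')) := by
      rw [← sub_sub_cancel H (G.map _)]
      exact b1.sub (d1.mono hcoe (by omega))
    rw [Matrix.map_mul, Matrix.map_mul, Matrix.map_sub _ (map_sub (algebraMap L L')), Matrix.map_mul,
      Matrix.map_mul]
    have e : G.map (algebraMap L L') * P.map (algebraMap L L') * G'.map (algebraMap L L') -
        Q.map (algebraMap L L') =
        -((H - G.map (algebraMap L L')) * P.map (algebraMap L L') * H') -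
          G.map (algebraMap L L') * P.map (algebraMap L L') * (H' - G'.map (algebraMap L L')) := by
      rw [← hq]
      simp only [Matrix.sub_mul, Matrix.mul_sub]
      abel
    rw [e]
    have e1 := ((d1.mul b3).mul b2).neg.mono hcoe
      (show (N₀ : ℤ) - 2 * k ≤ (N₀ : ℤ) + -(k : ℤ) + -(k : ℤ) by omega)
    have e2 := ((hG1.mul b3).mul d2).mono hcoe
      (show (N₀ : ℤ) - 2 * k ≤ -(k : ℤ) + -(k : ℤ) + (N₀ : ℤ) by omega)
    exact ((b4.mul (e1.sub e2)).mul b4).mono hcoe
      (show (1 : ℤ) ≤ -(k : ℤ) + ((N₀ : ℤ) - 2 * k) + -(k : ℤ) by omega)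
  have hW : Q * (G * P * G') * Q + (1 - Q) = 1 + Q * (G * P * G' - Q) * Q := by
    rw [Matrix.mul_sub, Matrix.sub_mul, hQQ, hQQ]
    abel
  rw [hW]
  exact isUnit_one_add hA (tU_coe t) (descendM t h 1 hX)

theorem bijective_approx {m n : ℕ} {M N : Type u} [AddCommGroup M] [Module L M] [AddCommGroup N]
    [Module L N] (iM : M →ₗ[L] (Fin n → L)) (πM : (Fin n → L) →ₗ[L] M) (iN : N →ₗ[L] (Fin m → L))
    (πN : (Fin m → L) →ₗ[L] N) (hN : πN ∘ₗ iN = LinearMap.id)
    (G : Matrix (Fin m) (Fin n) L) (G' : Matrix (Fin n) (Fin m) L)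
    (hu : IsUnit (LinearMap.toMatrix' (iN ∘ₗ πN) * (G * LinearMap.toMatrix' (iM ∘ₗ πM) * G') *
      LinearMap.toMatrix' (iN ∘ₗ πN) + (1 - LinearMap.toMatrix' (iN ∘ₗ πN)))) :
    Function.Bijective ((πN ∘ₗ Matrix.toLin' G ∘ₗ iM) ∘ₗ (πM ∘ₗ Matrix.toLin' G' ∘ₗ iN)) := by
  obtain ⟨w, hw⟩ := hu
  refine bijective_of_retract iN πN (fun x => LinearMap.congr_fun hN x) _
    (Matrix.toLin' (w : Matrix (Fin m) (Fin m) L)) (fun z => ?_) ?_
  · rw [hw]
    simp only [map_add, map_sub, Matrix.toLin'_mul, Matrix.toLin'_toMatrix', Matrix.toLin'_one,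
      LinearMap.add_apply, LinearMap.sub_apply, LinearMap.comp_apply, LinearMap.id_coe, id_eq]
  · refine Function.bijective_iff_has_inverse.2 ⟨Matrix.toLin' (↑w⁻¹ : Matrix (Fin m) (Fin m) L),
      fun z => ?_, fun z => ?_⟩
    · rw [← LinearMap.comp_apply, ← Matrix.toLin'_mul, Units.inv_mul, Matrix.toLin'_one]; rfl
    · rw [← LinearMap.comp_apply, ← Matrix.toLin'_mul, Units.mul_inv, Matrix.toLin'_one]; rfl

/-- isomorphy of finite projective modules over `A[1/t]` is detected on `A'[1/t]` -/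
theorem nonempty_equiv_of_baseChange (hA : t ∈ Ideal.jacobson (⊥ : Ideal A)) (h : IsApprox t A')
    (M N : Type u) [AddCommGroup M] [Module L M] [Module.Finite L M] [Module.Projective L M]
    [AddCommGroup N] [Module L N] [Module.Finite L N] [Module.Projective L N]
    (θ : L' ⊗[L] M ≃ₗ[L'] L' ⊗[L] N) : Nonempty (M ≃ₗ[L] N) := by
  obtain ⟨n, πM, iM, -, -, hM⟩ := Module.Finite.exists_comp_eq_id_of_projective L M
  obtain ⟨m, πN, iN, -, -, hN⟩ := Module.Finite.exists_comp_eq_id_of_projective L N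
  let P := LinearMap.toMatrix' (iM ∘ₗ πM)
  let Q := LinearMap.toMatrix' (iN ∘ₗ πN)
  let Jn := TensorProduct.piScalarRight L L' L' (Fin n)
  let Jm := TensorProduct.piScalarRight L L' L' (Fin m)
  let iM' := Jn.toLinearMap ∘ₗ iM.baseChange L'
  let πM' := πM.baseChange L' ∘ₗ Jn.symm.toLinearMap
  let iN' := Jm.toLinearMap ∘ₗ iN.baseChange L'
  let πN' := πN.baseChange L' ∘ₗ Jm.symm.toLinearMap
  let P' := P.map (algebraMap L L')
  let Q' := Q.map (algebraMap L L')
  have hM' : πM' ∘ₗ iM' = LinearMap.id := by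
    refine LinearMap.ext fun x => ?_
    simp only [πM', iM', LinearMap.comp_apply, LinearEquiv.coe_coe, LinearEquiv.symm_apply_apply]
    rw [← LinearMap.comp_apply, ← LinearMap.baseChange_comp, hM, LinearMap.baseChange_id]
  have hN' : πN' ∘ₗ iN' = LinearMap.id := by
    refine LinearMap.ext fun x => ?_
    simp only [πN', iN', LinearMap.comp_apply, LinearEquiv.coe_coe, LinearEquiv.symm_apply_apply]
    rw [← LinearMap.comp_apply, ← LinearMap.baseChange_comp, hN, LinearMap.baseChange_id]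
  have hP' : iM' ∘ₗ πM' = Matrix.toLin' P' := by
    refine LinearMap.ext fun x => ?_
    simp only [πM', iM', LinearMap.comp_apply, LinearEquiv.coe_coe]
    rw [← LinearMap.comp_apply (iM.baseChange L'), ← LinearMap.baseChange_comp,
      piScalarRight_comp_baseChange, LinearEquiv.apply_symm_apply]
  have hQ' : iN' ∘ₗ πN' = Matrix.toLin' Q' := by
    refine LinearMap.ext fun x => ?_
    simp only [πN', iN', LinearMap.comp_apply, LinearEquiv.coe_coe]
    rw [← LinearMap.comp_apply (iN.baseChange L'), ← LinearMap.baseChange_comp,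
      piScalarRight_comp_baseChange, LinearEquiv.apply_symm_apply]
  let H := LinearMap.toMatrix' (iN' ∘ₗ θ.toLinearMap ∘ₗ πM')
  let H' := LinearMap.toMatrix' (iM' ∘ₗ θ.symm.toLinearMap ∘ₗ πN')
  have hHH : H * P' * H' = Q' := by
    rw [← Matrix.toLin'.injective.eq_iff, Matrix.toLin'_mul, Matrix.toLin'_mul,
      Matrix.toLin'_toMatrix', Matrix.toLin'_toMatrix', ← hP', ← hQ']
    refine LinearMap.ext fun x => ?_
    have e := fun y => LinearMap.congr_fun hM' y
    simp only [LinearMap.comp_apply, LinearMap.id_apply] at e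
    simp only [LinearMap.comp_apply, LinearEquiv.coe_coe, e, LinearEquiv.apply_symm_apply]
  have hH'H : H' * Q' * H = P' := by
    rw [← Matrix.toLin'.injective.eq_iff, Matrix.toLin'_mul, Matrix.toLin'_mul,
      Matrix.toLin'_toMatrix', Matrix.toLin'_toMatrix', ← hP', ← hQ']
    refine LinearMap.ext fun x => ?_
    have e := fun y => LinearMap.congr_fun hN' y
    simp only [LinearMap.comp_apply, LinearMap.id_apply] at e
    simp only [LinearMap.comp_apply, LinearEquiv.coe_coe, e, LinearEquiv.symm_apply_apply]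
  obtain ⟨k₁, hk₁⟩ := exists_bound t (A' := A') (L := L) H
  obtain ⟨k₂, hk₂⟩ := exists_bound t (A' := A') (L := L) H'
  obtain ⟨k₃, hk₃⟩ := exists_bound t (A' := A') (L := L) P'
  obtain ⟨k₄, hk₄⟩ := exists_bound t (A' := A') (L := L) Q'
  let k := k₁ + k₂ + k₃ + k₄
  have hcoe := tU'_coe (A' := A') (L := L) (L' := L') t
  let N₀ := 4 * k + 1
  obtain ⟨G, hG⟩ := exists_approxM (L := L) t h N₀ H
  obtain ⟨G', hG'⟩ := exists_approxM (L := L) t h N₀ H'
  let a : M →ₗ[L] N := πN ∘ₗ Matrix.toLin' G ∘ₗ iM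
  let b : N →ₗ[L] M := πM ∘ₗ Matrix.toLin' G' ∘ₗ iN
  have hPP : P * P = P := by
    rw [← LinearMap.toMatrix'_comp]
    exact congrArg _ (LinearMap.ext fun x => congrArg iM (LinearMap.congr_fun hM (πM x)))
  have hQQ : Q * Q = Q := by
    rw [← LinearMap.toMatrix'_comp]
    exact congrArg _ (LinearMap.ext fun x => congrArg iN (LinearMap.congr_fun hN (πN x)))
  have b1 := hk₁.mono hcoe (show -(k : ℤ) ≤ -(k₁ : ℤ) by omega)
  have b2 := hk₂.mono hcoe (show -(k : ℤ) ≤ -(k₂ : ℤ) by omega)
  have b3 := hk₃.mono hcoe (show -(k : ℤ) ≤ -(k₃ : ℤ) by omega)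
  have b4 := hk₄.mono hcoe (show -(k : ℤ) ≤ -(k₄ : ℤ) by omega)
  have h1 := bijective_approx iM πM iN πN hN G G' (isUnit_approx hA h k P Q H H' G G' hHH hQQ b1 b2 b3 b4 hG hG')
  have h2 := bijective_approx iN πN iM πM hM G' G (isUnit_approx hA h k Q P H' H G' G hH'H hPP b2 b1 b4 b3 hG' hG)
  exact ⟨LinearEquiv.ofBijective a ⟨Function.Injective.of_comp (f := b) h2.1,
    Function.Surjective.of_comp (g := b) h1.2⟩⟩

end Setup

end Groth.Agent.CAlg9.Approx
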