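import Groth.Agent.Hens22.Integral
import Groth.Agent.Hens22.Idempotents
import Mathlib.RingTheory.Localization.Away.Basic
import Mathlib.LinearAlgebra.Matrix.Charpoly.Basic
import Mathlib.LinearAlgebra.Matrix.NonsingularInverse
import Mathlib.RingTheory.AdjoinRoot
import Mathlib.RingTheory.Henselian
import Mathlib.Tactic.NoncommRing
import Mathlib.Tactic.LinearCombination

/-!
Approximation of matrices over a punctured completion `A'[1/t]` by matrices over `A[1/t]`.
-/

set_option autoImplicit false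
universe u v w

open Polynomial

namespace Groth.Agent.CAlg9.Approx

section Bd

variable {S : Type u} [CommRing S] {L : Type v} [CommRing L]

/-- `x` lies in `c ^ m` times the image of `S` -/
def Bd (f : S →+* L) (c : Lˣ) (m : ℤ) (x : L) : Prop := ∃ y, x = ((c ^ m : Lˣ) : L) * f y

variable {f : S →+* L} {c : Lˣ}

theorem Bd.zero {m : ℤ} : Bd f c m 0 := ⟨0, by simp⟩

theorem Bd.map_zero' (y : S) : Bd f c 0 (f y) := ⟨y, by simp⟩

theorem Bd.add {m : ℤ} {x y : L} (hx : Bd f c m x) (hy : Bd f c m y) : Bd f c m (x + y) := by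
  obtain ⟨a, rfl⟩ := hx
  obtain ⟨b, rfl⟩ := hy
  exact ⟨a + b, by rw [map_add, mul_add]⟩

theorem Bd.neg {m : ℤ} {x : L} (hx : Bd f c m x) : Bd f c m (-x) := by
  obtain ⟨a, rfl⟩ := hx
  exact ⟨-a, by rw [map_neg, mul_neg]⟩

theorem Bd.sub {m : ℤ} {x y : L} (hx : Bd f c m x) (hy : Bd f c m y) : Bd f c m (x - y) :=
  sub_eq_add_neg x y ▸ hx.add hy.neg

theorem Bd.mul {m k : ℤ} {x y : L} (hx : Bd f c m x) (hy : Bd f c k y) : Bd f c (m + k) (x * y) := by
  obtain ⟨a, rfl⟩ := hx
  obtain ⟨b, rfl⟩ := hy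
  exact ⟨a * b, by rw [map_mul, zpow_add, Units.val_mul]; ring⟩

theorem Bd.mono {m k : ℤ} {x : L} {t : S} (hc : (c : L) = f t) (h : k ≤ m) (hx : Bd f c m x) :
    Bd f c k x := by
  obtain ⟨a, rfl⟩ := hx
  obtain ⟨d, rfl⟩ := Int.le.dest h
  exact ⟨t ^ d * a, by
    rw [map_mul, map_pow, ← hc, zpow_add, Units.val_mul, zpow_natCast, Units.val_pow_eq_pow_val]
    ring⟩

theorem Bd.sum {m : ℤ} {ι : Type*} {s : Finset ι} {x : ι → L} (h : ∀ i ∈ s, Bd f c m (x i)) :
    Bd f c m (∑ i ∈ s, x i) := by
  classical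
  induction s using Finset.induction_on with
  | empty => simpa using Bd.zero
  | insert a s ha ih =>
    rw [Finset.sum_insert ha]
    exact (h a (Finset.mem_insert_self _ _)).add (ih fun i hi => h i (Finset.mem_insert_of_mem hi))

/-- entrywise bound -/
def BdM {ι κ : Type*} (f : S →+* L) (c : Lˣ) (m : ℤ) (M : Matrix ι κ L) : Prop :=
  ∀ i j, Bd f c m (M i j)

variable {ι κ τ : Type*}

theorem BdM.add {m : ℤ} {M N : Matrix ι κ L} (hM : BdM f c m M) (hN : BdM f c m N) :
    BdM f c m (M + N) := fun i j => (hM i j).add (hN i j)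

theorem BdM.sub {m : ℤ} {M N : Matrix ι κ L} (hM : BdM f c m M) (hN : BdM f c m N) :
    BdM f c m (M - N) := fun i j => (hM i j).sub (hN i j)

theorem BdM.neg {m : ℤ} {M : Matrix ι κ L} (hM : BdM f c m M) : BdM f c m (-M) :=
  fun i j => (hM i j).neg

theorem BdM.mul [Fintype κ] {m k : ℤ} {M : Matrix ι κ L} {N : Matrix κ τ L}
    (hM : BdM f c m M) (hN : BdM f c k N) : BdM f c (m + k) (M * N) :=
  fun i j => by rw [Matrix.mul_apply]; exact Bd.sum fun l _ => (hM i l).mul (hN l j)

theorem BdM.mono {m k : ℤ} {M : Matrix ι κ L} {t : S} (hc : (c : L) = f t) (h : k ≤ m)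
    (hM : BdM f c m M) : BdM f c k M := fun i j => (hM i j).mono hc h

theorem BdM.one [DecidableEq ι] : BdM f c 0 (1 : Matrix ι ι L) := fun i j => by
  rw [Matrix.one_apply]
  split_ifs
  · simpa using Bd.map_zero' (c := c) (f := f) 1
  · exact Bd.zero

theorem BdM.map_zero' (Y : Matrix ι κ S) : BdM f c 0 (Y.map f) := fun i j => Bd.map_zero' (Y i j)

theorem BdM.pow [Fintype ι] [DecidableEq ι] {k : ℤ} {M : Matrix ι ι L} (hM : BdM f c k M) (i : ℕ) :
    BdM f c (i * k) (M ^ i) := by
  induction i with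
  | zero => simpa using BdM.one (f := f) (c := c) (ι := ι)
  | succ i ih =>
    rw [pow_succ, Nat.cast_succ, add_mul, one_mul]
    exact ih.mul hM

theorem exists_eq_smul {M : Matrix ι κ L} {t : S} (hc : (c : L) = f t) (hM : BdM f c 1 M) :
    ∃ Y : Matrix ι κ S, M = (t • Y).map f := by
  choose y hy using hM
  exact ⟨Matrix.of y, by ext i j; simpa [hc, map_mul] using hy i j⟩

theorem isUnit_one_add [Fintype ι] [DecidableEq ι] {t : S} (ht : t ∈ Ideal.jacobson (⊥ : Ideal S))
    (hc : (c : L) = f t) {M : Matrix ι ι L} (hM : BdM f c 1 M) : IsUnit (1 + M) := by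
  obtain ⟨Y, rfl⟩ := exists_eq_smul hc hM
  have h : (1 + (t • Y).map f : Matrix ι ι L) = f.mapMatrix (1 + t • Y) := by
    rw [map_add, map_one]; rfl
  rw [h]
  refine IsUnit.map _ ?_
  rw [Matrix.isUnit_iff_isUnit_det]
  refine Ideal.isUnit_of_sub_one_mem_jacobson_bot _ ?_
  suffices h : (1 + t • Y).det - 1 ∈ Ideal.span {t} by
    exact (Ideal.span_singleton_le_iff_mem _).2 ht h
  have hmap : (Ideal.Quotient.mk (Ideal.span {t})).mapMatrix (1 + t • Y) = 1 := by
    rw [map_add, map_one, add_eq_left]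
    ext i j
    simpa using Ideal.Quotient.eq_zero_iff_mem.2
      (Ideal.mul_mem_right (Y i j) _ (Ideal.mem_span_singleton_self t))
  rw [← Ideal.Quotient.eq, RingHom.map_det, hmap, Matrix.det_one, map_one]

end Bd

section Setup

variable {A : Type u} [CommRing A] (t : A) {A' : Type u} [CommRing A'] [Algebra A A']
  {L : Type v} [CommRing L] [Algebra A L] [IsLocalization.Away t L]
  {L' : Type w} [CommRing L'] [Algebra A L'] [Algebra A' L'] [IsScalarTower A A' L']
  [Algebra L L'] [IsScalarTower A L L'] [IsLocalization.Away (algebraMap A A' t) L']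

/-- `A'` looks like the completion of `A` along `t` -/
structure IsApprox (A' : Type u) [CommRing A'] [Algebra A A'] : Prop where
  surj : ∀ (m : ℕ) (x : A'), ∃ (a : A) (y : A'), x = algebraMap A A' a + algebraMap A A' t ^ m * y
  inj : ∀ (m : ℕ) (a : A) (y : A'), algebraMap A A' a = algebraMap A A' t ^ m * y → t ^ m ∣ a
  jac : algebraMap A A' t ∈ Ideal.jacobson (⊥ : Ideal A')

/-- the unit `t` of `L` -/
noncomputable def tU (L : Type v) [CommRing L] [Algebra A L] [IsLocalization.Away t L] : Lˣ :=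
  (IsLocalization.Away.algebraMap_isUnit (S := L) t).unit

theorem tU_coe : (tU t L : L) = algebraMap A L t := rfl

/-- the unit `t` of `L'` -/
noncomputable def tU' (L L' : Type*) [CommRing L] [Algebra A L] [IsLocalization.Away t L]
    [CommRing L'] [Algebra L L'] : L'ˣ :=
  Units.map (algebraMap L L').toMonoidHom (tU t L)

theorem tU'_coe : (tU' t L L' : L') = algebraMap A' L' (algebraMap A A' t) := by
  rw [← IsScalarTower.algebraMap_apply A A' L', IsScalarTower.algebraMap_apply A L L']
  rfl

theorem tU'_zpow (k : ℤ) : ((tU' t L L' ^ k : L'ˣ) : L') = algebraMap L L' ((tU t L ^ k : Lˣ) : L) := by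
  rw [tU', ← map_zpow]
  rfl

/-- elements of `L` which become divisible by `t ^ m` are divisible by `t ^ m` -/
theorem descend (h : IsApprox t A') (m : ℕ) {x : L}
    (hx : Bd (algebraMap A' L') (tU' t L L') m (algebraMap L L' x)) :
    Bd (algebraMap A L) (tU t L) m x := by
  obtain ⟨j, a, hja⟩ := IsLocalization.Away.surj t x
  obtain ⟨y, hy⟩ := hx
  rw [zpow_natCast, Units.val_pow_eq_pow_val, (tU'_coe (A' := A') (L := L) (L' := L') t)] at hy
  have h1 := congrArg (algebraMap L L') hja
  rw [map_mul, map_pow, hy, ← IsScalarTower.algebraMap_apply A L L',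
    ← IsScalarTower.algebraMap_apply A L L', IsScalarTower.algebraMap_apply A A' L',
    IsScalarTower.algebraMap_apply A A' L', ← map_pow (algebraMap A' L'), ← map_pow (algebraMap A' L'),
    ← map_mul, ← map_mul] at h1
  obtain ⟨⟨_, ⟨i, rfl⟩⟩, hi⟩ :=
    (IsLocalization.eq_iff_exists (Submonoid.powers (algebraMap A A' t)) L').1 h1
  obtain ⟨b, hb⟩ := h.inj (i + m + j) (t ^ i * a) y (by
    simp only at hi
    rw [map_mul, map_pow]
    linear_combination -hi)
  refine ⟨algebraMap A A b, ?_⟩
  rw [zpow_natCast, Units.val_pow_eq_pow_val, tU_coe, Algebra.algebraMap_self, RingHom.id_apply]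
  have hu := (IsLocalization.Away.algebraMap_isUnit (S := L) t).pow (i + j)
  apply hu.mul_right_cancel
  have hb' := congrArg (algebraMap A L) hb
  rw [map_mul, map_mul, map_pow, map_pow] at hb'
  rw [← map_pow, ← map_pow, pow_add, map_mul, map_pow, map_pow]
  calc x * (algebraMap A L t ^ i * algebraMap A L t ^ j)
      = algebraMap A L t ^ i * (x * algebraMap A L t ^ j) := by ring
    _ = algebraMap A L t ^ i * algebraMap A L a := by rw [hja]
    _ = _ := by rw [hb', pow_add, pow_add, map_pow]; ring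

theorem descendM {ι κ : Type*} (h : IsApprox t A') (m : ℕ) {X : Matrix ι κ L}
    (hX : BdM (algebraMap A' L') (tU' t L L') m (X.map (algebraMap L L'))) :
    BdM (algebraMap A L) (tU t L) m X :=
  fun i j => descend t h m (hX i j)

theorem exists_approx (h : IsApprox t A') (m : ℕ) (x' : L') :
    ∃ x : L, Bd (algebraMap A' L') (tU' t L L') m (x' - algebraMap L L' x) := by
  obtain ⟨j, y, hjy⟩ := IsLocalization.Away.surj (algebraMap A A' t) x'
  obtain ⟨a, z, hz⟩ := h.surj (m + j) y
  refine ⟨((tU t L ^ (-(j : ℤ)) : Lˣ) : L) * algebraMap A L a, z, ?_⟩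
  apply (IsLocalization.Away.algebraMap_isUnit (S := L') (algebraMap A A' t)).pow j |>.mul_right_cancel
  rw [sub_mul, hjy, map_mul, ← tU'_zpow, ← (tU'_coe (A' := A') (L := L) (L' := L') t), ← IsScalarTower.algebraMap_apply A L L',
    IsScalarTower.algebraMap_apply A A' L', hz, map_add, map_mul, map_pow, ← (tU'_coe (A' := A') (L := L) (L' := L') t),
    zpow_neg, zpow_natCast, zpow_natCast, Units.val_pow_eq_pow_val, pow_add]
  rw [show ((tU' t L L' ^ j)⁻¹ : L'ˣ) * algebraMap A' L' (algebraMap A A' a) * (tU' t L L' : L') ^ j =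
      algebraMap A' L' (algebraMap A A' a) by
    rw [mul_comm _ (algebraMap A' L' _), mul_assoc, ← Units.val_pow_eq_pow_val, Units.inv_mul, mul_one]]
  ring

theorem exists_approxM {ι κ : Type*} (h : IsApprox t A') (m : ℕ) (X' : Matrix ι κ L') :
    ∃ X : Matrix ι κ L, BdM (algebraMap A' L') (tU' t L L') m (X' - X.map (algebraMap L L')) := by
  choose x hx using fun i j => exists_approx (L := L) t h m (X' i j)
  exact ⟨Matrix.of x, hx⟩

theorem exists_bound {ι κ : Type*} [Fintype ι] [Fintype κ] (X' : Matrix ι κ L') :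
    ∃ k : ℕ, BdM (algebraMap A' L') (tU' t L L') (-(k : ℤ)) X' := by
  classical
  choose j y hy using fun p : ι × κ => IsLocalization.Away.surj (algebraMap A A' t) (X' p.1 p.2)
  refine ⟨Finset.univ.sup j, fun a b => Bd.mono (tU'_coe (A' := A') (L := L) (L' := L') t) (k := -((Finset.univ.sup j : ℕ) : ℤ))
    (m := -(j (a, b) : ℤ)) (by
      have := Finset.le_sup (f := j) (Finset.mem_univ (a, b))
      omega) ⟨y (a, b), ?_⟩⟩
  rw [← hy (a, b), ← (tU'_coe (A' := A') (L := L) (L' := L') t), zpow_neg, zpow_natCast, ← Units.val_pow_eq_pow_val,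
    mul_comm (X' a b), ← mul_assoc, Units.inv_mul, one_mul]

/-- an idempotent matrix over `L'` is conjugate to one coming from `L` -/
theorem exists_idempotent_conj [HenselianRing A (Ideal.span {t})] (h : IsApprox t A')
    {n : Type} [Fintype n] [DecidableEq n] (e : Matrix n n L') (he : IsIdempotentElem e) :
    ∃ ε : Matrix n n L, IsIdempotentElem ε ∧ ∃ u : Matrix n n L', IsUnit u ∧
      u * e = (algebraMap L L').mapMatrix ε * u := by
  classical
  let φ := (algebraMap L L').mapMatrix (m := n)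
  obtain ⟨k, hk⟩ := exists_bound t (A' := A') (L := L) e
  let d := Fintype.card n
  let N : ℕ := 2 * d * k + k + 1
  obtain ⟨E, hE⟩ := exists_approxM (L := L) t h N e
  change BdM (algebraMap A' L') (tU' t L L') N (e - φ E) at hE
  have hcoe := tU'_coe (A' := A') (L := L) (L' := L') t
  have hφE : BdM (algebraMap A' L') (tU' t L L') (-(k : ℤ)) (φ E) := by
    rw [← sub_sub_cancel e (φ E)]
    exact hk.sub (hE.mono hcoe (by omega))
  have hD' : BdM (algebraMap A' L') (tU' t L L') 1 (φ (E * E - E)) := by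
    have h1 : φ (E * E - E) = -((e - φ E) * φ E) - e * (e - φ E) + (e - φ E) := by
      rw [map_sub, map_mul]
      have he' : e * e = e := he
      rw [sub_mul, mul_sub, he']
      abel
    rw [h1]
    exact (((hE.mul hφE).neg.mono hcoe (by omega)).sub ((hk.mul hE).mono hcoe (by omega))).add
      (hE.mono hcoe (by omega))
  obtain ⟨Y, hY⟩ := exists_eq_smul (tU_coe t) (descendM t h 1 (X := E * E - E) hD')
  let q := (t • Y).charpoly
  let P : A[X] := q.comp (X ^ 2 - X)
  have hsq : (X ^ 2 - X : A[X]).Monic := by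
    nontriviality A
    refine (monic_X_pow 2).sub_of_left ?_
    rw [degree_X_pow, degree_X]; decide
  have hnd : (X ^ 2 - X : A[X]).natDegree ≤ 2 := by
    refine (natDegree_sub_le _ _).trans ?_
    simp [natDegree_X_pow_le, natDegree_X_le.trans]
  have hqd : q.natDegree ≤ d := by
    rcases subsingleton_or_nontrivial A with h1 | h1
    · simp [natDegree_of_subsingleton]
    · exact (Matrix.charpoly_natDegree_eq_dim _).le
  have hP : P.Monic := by
    nontriviality A
    refine (Matrix.charpoly_monic _).comp hsq ?_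
    rw [natDegree_sub_eq_left_of_natDegree_lt] <;> simp
  have hPd : P.natDegree ≤ 2 * d := natDegree_comp_le.trans (by
    calc q.natDegree * (X ^ 2 - X : A[X]).natDegree ≤ d * 2 := Nat.mul_le_mul hqd hnd
      _ = 2 * d := mul_comm _ _)
  have hEP : aeval E P = 0 := by
    have hD : aeval (E * E - E) q = 0 := by
      have h0 := Matrix.aeval_self_charpoly (t • Y)
      have hmap : E * E - E = (Algebra.ofId A L).mapMatrix (t • Y) := hY
      rw [hmap, aeval_algHom_apply, h0, map_zero]
    rw [show P = q.comp (X ^ 2 - X) from rfl, aeval_comp]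
    simpa [sq] using hD
  -- the commutative algebra generated by `E`
  let C := A[X] ⧸ Ideal.span {P}
  have : Module.Finite A C := Polynomial.Monic.finite_adjoinRoot hP
  have : Algebra.IsIntegral A C := Algebra.IsIntegral.of_finite A C
  let ev : C →ₐ[A] Matrix n n L := Ideal.Quotient.liftₐ (Ideal.span {P}) (aeval E) (fun a ha => by
    obtain ⟨b, rfl⟩ := Ideal.mem_span_singleton'.1 ha
    rw [map_mul, hEP, mul_zero])
  let x : C := Ideal.Quotient.mk _ X
  have hevx : ev x = E := aeval_X E
  have : HenselianRing C ((Ideal.span {t}).map (algebraMap A C)) :=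
    Hens22.henselianRing_of_isIntegral (Ideal.span {t}) C
  let J : Ideal C := ((Ideal.span {t}).map (algebraMap A C)).radical
  have : HenselianRing C J := Hens22.henselianRing_radical _
  have hxx : x * x - x ∈ J := by
    refine ⟨d, ?_⟩
    have hq0 : q.map (Ideal.Quotient.mk (Ideal.span {t})) = X ^ d := by
      rw [← Matrix.charpoly_map, show (t • Y).map (Ideal.Quotient.mk (Ideal.span {t})) = 0 from ?_,
        Matrix.charpoly_zero]
      ext i j
      simpa using Ideal.Quotient.eq_zero_iff_mem.2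
        (Ideal.mul_mem_right (Y i j) _ (Ideal.mem_span_singleton_self t))
    have hdiff : q - X ^ d ∈ (Ideal.span {t}).map Polynomial.C := by
      rw [Ideal.mem_map_C_iff]
      intro i
      rw [← Ideal.Quotient.eq_zero_iff_mem, ← coeff_map, Polynomial.map_sub, hq0, Polynomial.map_pow,
        map_X, sub_self, coeff_zero]
    have hPx : aeval (x * x - x) q = 0 := by
      have hx' : aeval x P = 0 := by
        have hax : (aeval x : A[X] →ₐ[A] C) = Ideal.Quotient.mkₐ A _ :=
          Polynomial.algHom_ext (by rw [aeval_X]; rfl)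
        rw [hax]
        exact Ideal.Quotient.eq_zero_iff_mem.2 (Ideal.mem_span_singleton_self P)
      have hx'' : aeval x (q.comp (X ^ 2 - X)) = 0 := hx'
      rw [aeval_comp] at hx''
      simpa [sq] using hx''
    have := Ideal.mem_map_of_mem (aeval (x * x - x) : A[X] →ₐ[A] C).toRingHom hdiff
    rw [Ideal.map_map, show (aeval (x * x - x) : A[X] →ₐ[A] C).toRingHom.comp Polynomial.C = algebraMap A C from
      RingHom.ext fun a => aeval_C _ a] at this
    simp only [AlgHom.toRingHom_eq_coe, RingHom.coe_coe, map_sub, hPx, zero_sub, map_pow, aeval_X] at this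
    exact neg_mem_iff.1 this
  obtain ⟨ε₀, hε₀, hεx⟩ := Hens22.exists_idempotent_lift (A := C) J (B := C) (e := x)
    (by rwa [Algebra.algebraMap_self, Ideal.map_id])
  rw [Algebra.algebraMap_self, Ideal.map_id] at hεx
  have hunit : IsUnit (1 + (ε₀ - x) * (1 - 2 * ε₀)) := by
    have hj := Ideal.mem_jacobson_bot.1 (HenselianRing.jac (R := C) (I := J) hεx) (1 - 2 * ε₀)
    rwa [add_comm] at hj
  obtain ⟨w, hw⟩ := hunit
  have hCbd : ∀ z : C, BdM (algebraMap A' L') (tU' t L L') (-((2 * d * k : ℕ) : ℤ)) (φ (ev z)) := by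
    intro z
    obtain ⟨g, rfl⟩ := Ideal.Quotient.mk_surjective z
    rw [← modByMonic_add_div g P, map_add, map_mul (Ideal.Quotient.mk _),
      Ideal.Quotient.eq_zero_iff_mem.2 (Ideal.mem_span_singleton_self P), zero_mul, add_zero]
    show BdM _ _ _ (φ (aeval E (g %ₘ P)))
    rw [aeval_eq_sum_range, map_sum]
    intro a b
    rw [Matrix.sum_apply]
    refine Bd.sum fun i hi => ?_
    have hi' : i ≤ 2 * d := by
      have := natDegree_modByMonic_le g hP
      have := Finset.mem_range.1 hi
      omega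
    rw [show (g %ₘ P).coeff i • E ^ i = (Matrix.scalar n (algebraMap A L ((g %ₘ P).coeff i))) * E ^ i by
      rw [Algebra.smul_def]; rfl, map_mul, map_pow]
    have hsc : BdM (algebraMap A' L') (tU' t L L') 0
        (φ (Matrix.scalar n (algebraMap A L ((g %ₘ P).coeff i)))) := by
      have : φ (Matrix.scalar n (algebraMap A L ((g %ₘ P).coeff i))) =
          (Matrix.scalar n (algebraMap A A' ((g %ₘ P).coeff i))).map (algebraMap A' L') := by
        simp [φ, Matrix.diagonal_map, ← IsScalarTower.algebraMap_apply]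
      rw [this]
      exact BdM.map_zero' _
    exact ((hsc.mul (hφE.pow i)).mono hcoe (by push_cast; nlinarith)) a b
  let W := φ (ev ↑w⁻¹)
  let ε := φ (ev ε₀)
  have hεi : IsIdempotentElem ε := (hε₀.map ev).map φ
  refine ⟨ev ε₀, hε₀.map ev, ε * e + (1 - ε) * (1 - e), ?_, ?_⟩
  · let U := φ (ev (w : C))
    have hUW : U * W = 1 := by rw [← map_mul, ← map_mul, Units.mul_inv, map_one, map_one]
    have hU : U = ε * φ E + (1 - ε) * (1 - φ E) := by
      have hC : (w : C) = ε₀ * x + (1 - ε₀) * (1 - x) := by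
        rw [hw]
        linear_combination (-2 : C) * hε₀.eq
      simp only [U, ε]
      rw [hC]
      simp only [map_add, map_mul, map_sub, map_one, hevx]
    have hsplit : ε * e + (1 - ε) * (1 - e) = U * (1 + W * ((2 * ε - 1) * (e - φ E))) := by
      rw [mul_add, mul_one, ← mul_assoc, hUW, one_mul, hU]
      noncomm_ring
    rw [hsplit]
    refine IsUnit.mul ((w.isUnit.map ev).map φ) (isUnit_one_add h.jac hcoe ?_)
    have h2 : (2 * ε - 1 : Matrix n n L') = φ (ev (2 * ε₀ - 1)) := by
      simp [ε, map_ofNat]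
    rw [h2, ← mul_assoc]
    have h3 : W * φ (ev (2 * ε₀ - 1)) = φ (ev (↑w⁻¹ * (2 * ε₀ - 1))) := by
      simp only [W, map_mul]
    rw [h3]
    exact ((hCbd _).mul hE).mono hcoe (by push_cast [N]; omega)
  · have he' : e * e = e := he
    have hε' : ε * ε = ε := hεi
    show (ε * e + (1 - ε) * (1 - e)) * e = ε * (ε * e + (1 - ε) * (1 - e))
    rw [add_mul, mul_assoc, he', mul_assoc, sub_mul 1 e, one_mul, he', sub_self, mul_zero, add_zero,
      mul_add, ← mul_assoc, hε', ← mul_assoc, mul_sub ε 1, mul_one, hε', sub_self, zero_mul, add_zero]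

end Setup

end Groth.Agent.CAlg9.Approx
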