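import Groth.Agent.CAlg9.Approx.Module
import Mathlib.RingTheory.AdicCompletion.Completeness
import Mathlib.RingTheory.AdicCompletion.LocalRing
import Mathlib.RingTheory.LaurentSeries
import Mathlib.RingTheory.PowerSeries.Trunc

/-!
Adic completions and power series rings satisfy the approximation hypothesis.
-/

set_option autoImplicit false
universe u

namespace Groth.Agent.CAlg9.Approx

theorem isApprox_adicCompletion (A : Type u) [CommRing A] (t : A) :
    IsApprox t (AdicCompletion (Ideal.span {t}) A) := by
  have hfg : (Ideal.span {t}).FG := Submodule.fg_span_singleton t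
  have hker : ∀ (n : ℕ) (x : AdicCompletion (Ideal.span {t}) A),
      AdicCompletion.evalₐ (Ideal.span {t}) n x = 0 →
      ∃ y, x = algebraMap A (AdicCompletion (Ideal.span {t}) A) t ^ n * y := by
    intro n x hx
    have h1 : x ∈ (AdicCompletion.eval (Ideal.span {t}) A n).ker := by
      rw [LinearMap.mem_ker, ← AdicCompletion.factor_evalₐ_eq_eval _ x (by simp), hx, map_zero]
    rw [← AdicCompletion.pow_smul_top_eq_ker_eval hfg, Ideal.span_singleton_pow,
      Submodule.ideal_span_singleton_smul] at h1
    obtain ⟨y, -, rfl⟩ := (Submodule.mem_smul_pointwise_iff_exists _ _ _).1 h1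
    exact ⟨y, by rw [← map_pow, Algebra.smul_def]⟩
  refine ⟨fun m x => ?_, fun m a y h => ?_, ?_⟩
  · obtain ⟨a, ha⟩ := Ideal.Quotient.mk_surjective (AdicCompletion.evalₐ (Ideal.span {t}) m x)
    obtain ⟨y, hy⟩ := hker m (x - algebraMap A _ a) (by
      rw [map_sub, AlgHom.commutes, Ideal.Quotient.algebraMap_eq, ha, sub_self])
    exact ⟨a, y, by rw [← hy, add_sub_cancel]⟩
  · have h1 := congrArg (AdicCompletion.evalₐ (Ideal.span {t}) m) h
    rw [map_mul, map_pow, AlgHom.commutes, AlgHom.commutes, Ideal.Quotient.algebraMap_eq, ← map_pow,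
      Ideal.Quotient.eq_zero_iff_mem.2 (Ideal.pow_mem_pow (Ideal.mem_span_singleton_self t) m),
      zero_mul, Ideal.Quotient.eq_zero_iff_mem, Ideal.span_singleton_pow, Ideal.mem_span_singleton] at h1
    exact h1
  · have := AdicCompletion.isAdicComplete_self (Ideal.span {t}) hfg
    exact IsAdicComplete.le_jacobson_bot _ (Ideal.mem_map_of_mem _ (Ideal.mem_span_singleton_self t))

/-- criterion for the power series ring to be completion-like over an `R[X]`-algebra `B` -/
theorem isApprox_powerSeries {R : Type u} [CommRing R] {B : Type u} [CommRing B] [Algebra B (PowerSeries R)]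
    (t : B) (ι : Polynomial R →+* B)
    (hι : ∀ p : Polynomial R, algebraMap B (PowerSeries R) (ι p) = (p : PowerSeries R))
    (ht : algebraMap B (PowerSeries R) t = PowerSeries.X)
    (hinj : ∀ (m : ℕ) (a : B), PowerSeries.X ^ m ∣ algebraMap B (PowerSeries R) a → t ^ m ∣ a) :
    IsApprox t (PowerSeries R) := by
  classical
  refine ⟨fun m x => ?_, fun m a y h => hinj m a ⟨y, by rw [h, ht]⟩, ?_⟩
  · obtain ⟨q, hq⟩ : (PowerSeries.X : PowerSeries R) ^ m ∣ x - (x.trunc m : PowerSeries R) := by
      rw [PowerSeries.X_pow_dvd_iff]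
      intro d hd
      rw [map_sub, Polynomial.coeff_coe, PowerSeries.coeff_trunc, if_pos hd, sub_self]
    exact ⟨ι (x.trunc m), q, by rw [hι, ht, ← hq, add_sub_cancel]⟩
  · rw [ht, Ideal.mem_jacobson_bot]
    intro y
    rw [PowerSeries.isUnit_iff_constantCoeff]
    simp

end Groth.Agent.CAlg9.Approx
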