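import Groth.Agent.CAlg9.Approx.Examples

/-!
Idempotents and stably free modules along `A[1/t] → A'[1/t]`.
-/

set_option autoImplicit false
universe u v w

open TensorProduct

namespace Groth.Agent.CAlg9.Approx

variable {A : Type u} [CommRing A] {t : A} {A' : Type u} [CommRing A'] [Algebra A A']
  {L : Type u} [CommRing L] [Algebra A L] [IsLocalization.Away t L]
  {L' : Type u} [CommRing L'] [Algebra A L'] [Algebra A' L'] [IsScalarTower A A' L']
  [Algebra L L'] [IsScalarTower A L L'] [IsLocalization.Away (algebraMap A A' t) L']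

/-- idempotents with the same image are equal -/
theorem idempotent_eq (hA : t ∈ Ideal.jacobson (⊥ : Ideal A)) (h : IsApprox t A') {e e' : L}
    (he : IsIdempotentElem e) (he' : IsIdempotentElem e')
    (heq : algebraMap L L' e = algebraMap L L' e') : e = e' := by
  have hd : Bd (algebraMap A L) (tU t L) 1 (e - e') := descend (L' := L') t h 1 (by
    rw [map_sub, heq, sub_self]; exact Bd.zero)
  obtain ⟨y, hy⟩ := (hd.mul hd)
  have hu : IsUnit (1 - (e - e') * (e - e')) := by
    have h1 : IsUnit (1 + t * (-(t * y))) := by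
      have := Ideal.mem_jacobson_bot.1 hA (-(t * y))
      rwa [add_comm] at this
    have h2 := h1.map (algebraMap A L)
    rw [map_add, map_one, map_mul, map_neg, map_mul] at h2
    convert h2 using 1
    rw [hy, zpow_add, zpow_one, Units.val_mul, tU_coe]
    ring
  have h3 : (e - e') * (1 - (e - e') * (e - e')) = 0 := by
    linear_combination (-(e + 1) + 3 * e') * he.eq + ((e' + 1) - 3 * e) * he'.eq
  exact sub_eq_zero.1 ((hu.mul_left_eq_zero).1 h3)

/-- idempotents lift -/
theorem exists_idempotent [HenselianRing A (Ideal.span {t})] (h : IsApprox t A') {e : L'}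
    (he : IsIdempotentElem e) : ∃ e₀ : L, IsIdempotentElem e₀ ∧ algebraMap L L' e₀ = e := by
  classical
  obtain ⟨ε, hε, u, hu, hue⟩ := exists_idempotent_conj (L := L) (n := Fin 1) t h (Matrix.scalar (Fin 1) e)
    (he.map (Matrix.scalar (Fin 1)))
  have h1 : ∀ M N : Matrix (Fin 1) (Fin 1) L', (M * N) 0 0 = M 0 0 * N 0 0 := fun M N => by
    simp [Matrix.mul_apply]
  refine ⟨ε 0 0, ?_, ?_⟩
  · show ε 0 0 * ε 0 0 = ε 0 0
    have := congrFun (congrFun hε.eq 0) 0
    simpa [Matrix.mul_apply] using this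
  · have h2 : IsUnit (u 0 0) := by
      rw [Matrix.isUnit_iff_isUnit_det] at hu
      simpa [Matrix.det_fin_one] using hu
    have := congrFun (congrFun hue 0) 0
    rw [h1, h1] at this
    simp only [RingHom.mapMatrix_apply, Matrix.map_apply, Matrix.scalar_apply, Matrix.diagonal_apply_eq] at this
    exact (h2.mul_right_cancel (by rw [mul_comm e, this]) ).symm

/-- stably free modules over `A'[1/t]` come from stably free modules over `A[1/t]` -/
theorem exists_stablyFree (hA : t ∈ Ideal.jacobson (⊥ : Ideal A)) (h : IsApprox t A')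
    (M' : Type u) [AddCommGroup M'] [Module L' M'] (n m : ℕ)
    (θ : (M' × (Fin n → L')) ≃ₗ[L'] (Fin m → L')) :
    ∃ (M : Type u) (_ : AddCommGroup M) (_ : Module L M), Module.Finite L M ∧
      Nonempty ((M × (Fin n → L)) ≃ₗ[L] (Fin m → L)) ∧ Nonempty (L' ⊗[L] M ≃ₗ[L'] M') := by
  classical
  let s : (Fin n → L') →ₗ[L'] (Fin m → L') := θ.toLinearMap ∘ₗ LinearMap.inr L' M' (Fin n → L')
  let π : (Fin m → L') →ₗ[L'] (Fin n → L') := LinearMap.snd L' M' (Fin n → L') ∘ₗ θ.symm.toLinearMap
  let S := LinearMap.toMatrix' s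
  let P := LinearMap.toMatrix' π
  have hPS : P * S = 1 := by
    rw [← LinearMap.toMatrix'_comp, ← LinearMap.toMatrix'_id]
    congr 1
    refine LinearMap.ext fun x => ?_
    simp [s, π]
  have hcoe := tU'_coe (A' := A') (L := L) (L' := L') t
  obtain ⟨k₁, hk₁⟩ := exists_bound t (A' := A') (L := L) S
  obtain ⟨k₂, hk₂⟩ := exists_bound t (A' := A') (L := L) P
  let k := k₁ + k₂
  obtain ⟨S₀, hS₀⟩ := exists_approxM (L := L) t h (k + 1) S
  obtain ⟨P₀, hP₀⟩ := exists_approxM (L := L) t h (k + 1) P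
  have hSb := hk₁.mono hcoe (show -(k : ℤ) ≤ -(k₁ : ℤ) by omega)
  have hPb := hk₂.mono hcoe (show -(k : ℤ) ≤ -(k₂ : ℤ) by omega)
  have hunit : IsUnit (P₀ * S₀) := by
    rw [← add_sub_cancel (1 : Matrix (Fin n) (Fin n) L) (P₀ * S₀)]
    refine isUnit_one_add hA (tU_coe t) (descendM (L' := L') t h 1 ?_)
    rw [Matrix.map_sub _ (map_sub (algebraMap L L')), Matrix.map_mul,
      Matrix.map_one _ (map_zero _) (map_one _), ← hPS]
    have e : P₀.map (algebraMap L L') * S₀.map (algebraMap L L') - P * S =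
        -((P - P₀.map (algebraMap L L')) * S) - P₀.map (algebraMap L L') * (S - S₀.map (algebraMap L L')) := by
      simp only [Matrix.sub_mul, Matrix.mul_sub]
      abel
    rw [e]
    have hb : BdM (algebraMap A' L') (tU' t L L') (-(k : ℤ)) (P₀.map (algebraMap L L')) := by
      rw [← sub_sub_cancel P (P₀.map _)]
      exact hPb.sub (hP₀.mono hcoe (by omega))
    exact BdM.sub ((hP₀.mul hSb).neg.mono hcoe (by push_cast; omega))
      ((hb.mul hS₀).mono hcoe (by push_cast; omega))
  let s₀ := Matrix.toLin' S₀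
  obtain ⟨w, hw⟩ := hunit
  let π₀ : (Fin m → L) →ₗ[L] (Fin n → L) := Matrix.toLin' ((↑w⁻¹ : Matrix (Fin n) (Fin n) L) * P₀)
  have hπs : π₀ ∘ₗ s₀ = LinearMap.id := by
    rw [← Matrix.toLin'_mul, Matrix.mul_assoc, ← hw, Units.inv_mul, Matrix.toLin'_one]
  let M := LinearMap.ker π₀
  let e₀ : (M × (Fin n → L)) ≃ₗ[L] (Fin m → L) :=
    LinearEquiv.ofLinearMap (LinearMap.coprod M.subtype s₀)
      (LinearMap.prod ((LinearMap.id - s₀ ∘ₗ π₀).codRestrict M fun x => by
        show π₀ (x - s₀ (π₀ x)) = 0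
        rw [map_sub, show π₀ (s₀ (π₀ x)) = π₀ x from LinearMap.congr_fun hπs (π₀ x), sub_self]) π₀)
      (LinearMap.ext fun x => by simp)
      (LinearMap.ext fun ⟨⟨x, hx⟩, y⟩ => by
        have hx0 : π₀ x = 0 := hx
        have hsy : π₀ (s₀ y) = y := LinearMap.congr_fun hπs y
        refine Prod.ext (Subtype.ext ?_) ?_ <;> simp [hx0, hsy])
  refine ⟨M, inferInstance, inferInstance,
    Module.Finite.of_surjective (LinearMap.fst L M (Fin n → L) ∘ₗ e₀.symm.toLinearMap)
      (Prod.fst_surjective.comp e₀.symm.surjective), ⟨e₀⟩, ?_⟩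
  -- the automorphism moving `s` to the image of `s₀`
  let U : Matrix (Fin m) (Fin m) L' := 1 + (S₀.map (algebraMap L L') - S) * P
  have hU : IsUnit U := isUnit_one_add h.jac hcoe (by
    refine BdM.mono hcoe (m := ((k + 1 : ℕ) : ℤ) + -(k : ℤ)) (by push_cast; omega) (BdM.mul ?_ hPb)
    rw [← neg_sub]
    exact hS₀.neg)
  have hUS : U * S = S₀.map (algebraMap L L') := by
    simp only [U]
    rw [Matrix.add_mul, Matrix.one_mul, Matrix.mul_assoc, hPS, Matrix.mul_one, add_sub_cancel]
  obtain ⟨v, hv⟩ := hU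
  let J := TensorProduct.piScalarRight L L' L' (Fin m)
  let J' := TensorProduct.piScalarRight L L' L' (Fin n)
  let i : L' ⊗[L] M →ₗ[L'] (Fin m → L') := J.toLinearMap ∘ₗ M.subtype.baseChange L'
  let q : L' ⊗[L] (Fin m → L) →ₗ[L'] L' ⊗[L] M :=
    (LinearMap.fst L M (Fin n → L) ∘ₗ e₀.symm.toLinearMap).baseChange L'
  let Vinv := Matrix.toLin' (↑v⁻¹ : Matrix (Fin m) (Fin m) L')
  let V := Matrix.toLin' (v : Matrix (Fin m) (Fin m) L')
  have hVS : ∀ y, V (s y) = J (s₀.baseChange L' (J'.symm y)) := fun y => by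
    rw [piScalarRight_comp_baseChange, LinearEquiv.apply_symm_apply]
    show Matrix.toLin' (v : Matrix (Fin m) (Fin m) L') (s y) = _
    rw [hv, ← Matrix.toLin'_toMatrix' s, ← LinearMap.comp_apply, ← Matrix.toLin'_mul, hUS,
      LinearMap.toMatrix'_toLin']
  have hq1 : ∀ x, q (M.subtype.baseChange L' x) = x := fun x => by
    rw [← LinearMap.comp_apply, ← LinearMap.baseChange_comp,
      show (LinearMap.fst L M (Fin n → L) ∘ₗ e₀.symm.toLinearMap) ∘ₗ M.subtype = LinearMap.id from ?_,
      LinearMap.baseChange_id]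
    · rfl
    · refine LinearMap.ext fun z => ?_
      have : e₀.symm (z : Fin m → L) = (z, 0) := by
        rw [LinearEquiv.symm_apply_eq]; simp [e₀]
      simp [this]
  have hq2 : ∀ y, q (s₀.baseChange L' y) = 0 := fun y => by
    rw [← LinearMap.comp_apply, ← LinearMap.baseChange_comp,
      show (LinearMap.fst L M (Fin n → L) ∘ₗ e₀.symm.toLinearMap) ∘ₗ s₀ = 0 from ?_,
      LinearMap.baseChange_zero]
    · rfl
    · refine LinearMap.ext fun z => ?_
      have : e₀.symm (s₀ z) = (0, z) := by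
        rw [LinearEquiv.symm_apply_eq]; simp [e₀]
      simp [this]
  have hsum : ∀ z, M.subtype.baseChange L' (q z) + s₀.baseChange L' (π₀.baseChange L' z) = z := fun z => by
    rw [← LinearMap.comp_apply (M.subtype.baseChange L'), ← LinearMap.comp_apply (s₀.baseChange L'),
      ← LinearMap.baseChange_comp, ← LinearMap.baseChange_comp, ← LinearMap.add_apply,
      ← LinearMap.baseChange_add,
      show M.subtype ∘ₗ (LinearMap.fst L M (Fin n → L) ∘ₗ e₀.symm.toLinearMap) + s₀ ∘ₗ π₀ = LinearMap.id from ?_,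
      LinearMap.baseChange_id]
    · rfl
    · refine LinearMap.ext fun x => ?_
      conv_rhs => rw [LinearMap.id_apply, ← e₀.apply_symm_apply x]
      simp [e₀]
  refine ⟨LinearEquiv.ofLinearMap (LinearMap.fst L' M' (Fin n → L') ∘ₗ θ.symm.toLinearMap ∘ₗ Vinv ∘ₗ i)
    (q ∘ₗ J.symm.toLinearMap ∘ₗ V ∘ₗ θ.toLinearMap ∘ₗ LinearMap.inl L' M' (Fin n → L')) ?_ ?_⟩
  · refine LinearMap.ext fun x => ?_
    simp only [LinearMap.comp_apply, LinearEquiv.coe_coe, LinearMap.id_coe, id_eq]
    let z := J.symm (V (θ (LinearMap.inl L' M' (Fin n → L') x)))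
    show (θ.symm (Vinv (J (M.subtype.baseChange L' (q z))))).1 = x
    rw [show M.subtype.baseChange L' (q z) = z - s₀.baseChange L' (π₀.baseChange L' z) from
      eq_sub_of_add_eq (hsum z), map_sub, LinearEquiv.apply_symm_apply,
      show s₀.baseChange L' (π₀.baseChange L' z) = s₀.baseChange L' (J'.symm (J' (π₀.baseChange L' z))) by
        rw [LinearEquiv.symm_apply_apply], ← hVS, map_sub]
    simp only [Vinv, V]
    rw [← LinearMap.comp_apply, ← LinearMap.comp_apply (Matrix.toLin' (↑v⁻¹ : Matrix (Fin m) (Fin m) L')),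
      ← Matrix.toLin'_mul, Units.inv_mul, Matrix.toLin'_one, LinearMap.id_apply, LinearMap.id_apply,
      map_sub]
    simp [s]
  · refine LinearMap.ext fun x => ?_
    simp only [LinearMap.comp_apply, LinearEquiv.coe_coe, LinearMap.id_coe, id_eq]
    let z := θ.symm (Vinv (i x))
    have hz : θ (LinearMap.inl L' M' (Fin n → L') z.1) = Vinv (i x) - s z.2 := by
      have hsplit : LinearMap.inl L' M' (Fin n → L') z.1 = z - LinearMap.inr L' M' (Fin n → L') z.2 := by
        ext <;> simp
      rw [hsplit, map_sub, LinearEquiv.apply_symm_apply]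
      rfl
    show q (J.symm (V (θ (LinearMap.inl L' M' (Fin n → L') z.1)))) = x
    rw [hz, map_sub, map_sub, map_sub, hVS, LinearEquiv.symm_apply_apply, hq2, sub_zero]
    simp only [Vinv, V]
    rw [← LinearMap.comp_apply, ← Matrix.toLin'_mul, Units.mul_inv, Matrix.toLin'_one,
      LinearMap.id_apply]
    simp only [i, LinearMap.comp_apply, LinearEquiv.coe_coe, LinearEquiv.symm_apply_apply, hq1]

end Groth.Agent.CAlg9.Approx
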