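import Groth.Agent.CAlg9.Approx.Idem

/-!
The Zariski pair `(R[X]_{1+XR[X]}, (X))` and its punctured completion `R((X))`.
-/

set_option autoImplicit false
universe u

open Polynomial

namespace Groth.Agent.CAlg9.Approx

variable (R : Type u) [CommRing R]

/-- polynomials with constant term one -/
def oneSub : Submonoid R[X] where
  carrier := {f | f.coeff 0 = 1}
  one_mem' := by simp
  mul_mem' {f g} hf hg := by simp only [Set.mem_setOf_eq, mul_coeff_zero] at *; rw [hf, hg, mul_one]

/-- `R[X]_{1+XR[X]}` -/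
abbrev ZB : Type u := Localization (oneSub R)

theorem isUnit_coe (s : oneSub R) :
    IsUnit ((Polynomial.coeToPowerSeries.ringHom : R[X] →+* PowerSeries R) s) := by
  rw [PowerSeries.isUnit_iff_constantCoeff]
  have : (s : R[X]).coeff 0 = 1 := s.2
  rw [← PowerSeries.coeff_zero_eq_constantCoeff_apply, Polynomial.coeToPowerSeries.ringHom_apply,
    Polynomial.coeff_coe, this]
  exact isUnit_one

/-- the embedding into power series -/
noncomputable def toPS : ZB R →+* PowerSeries R := IsLocalization.lift (isUnit_coe R)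

theorem toPS_algebraMap (p : R[X]) : toPS R (algebraMap R[X] (ZB R) p) = (p : PowerSeries R) :=
  IsLocalization.lift_eq _ p

theorem X_mem_jacobson : algebraMap R[X] (ZB R) X ∈ Ideal.jacobson (⊥ : Ideal (ZB R)) := by
  rw [Ideal.mem_jacobson_bot]
  intro z
  obtain ⟨a, s, rfl⟩ := IsLocalization.exists_mk'_eq (oneSub R) z
  have hmem : (s : R[X]) + X * a ∈ oneSub R := by
    show ((s : R[X]) + X * a).coeff 0 = 1
    have : (s : R[X]).coeff 0 = 1 := s.2
    rw [coeff_add, mul_coeff_zero, coeff_X_zero, zero_mul, add_zero, this]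
  have h : (algebraMap R[X] (ZB R) X * IsLocalization.mk' (ZB R) a s + 1) * algebraMap R[X] (ZB R) s =
      algebraMap R[X] (ZB R) ((s : R[X]) + X * a) := by
    rw [add_mul, one_mul, mul_assoc, IsLocalization.mk'_spec, map_add, map_mul]
    ring
  exact isUnit_of_mul_isUnit_left (h ▸ IsLocalization.map_units (ZB R) ⟨_, hmem⟩)

theorem isApprox_ZB : letI := (toPS R).toAlgebra
    IsApprox (algebraMap R[X] (ZB R) X) (PowerSeries R) := by
  let _ := (toPS R).toAlgebra
  refine isApprox_powerSeries _ (algebraMap R[X] (ZB R)) (fun p => toPS_algebraMap R p) ?_ ?_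
  · exact (toPS_algebraMap R X).trans Polynomial.coe_X
  · intro m a h
    obtain ⟨p, s, rfl⟩ := IsLocalization.exists_mk'_eq (oneSub R) a
    change (PowerSeries.X : PowerSeries R) ^ m ∣ toPS R _ at h
    have h2 : (PowerSeries.X : PowerSeries R) ^ m ∣ (p : PowerSeries R) := by
      rw [← toPS_algebraMap, ← IsLocalization.mk'_spec (ZB R) p s, map_mul]
      exact h.mul_right _
    obtain ⟨q, rfl⟩ : (X : R[X]) ^ m ∣ p := by
      rw [Polynomial.X_pow_dvd_iff]
      intro d hd
      rw [← Polynomial.coeff_coe]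
      exact PowerSeries.X_pow_dvd_iff.1 h2 d hd
    refine ⟨IsLocalization.mk' (ZB R) q s, ?_⟩
    rw [← map_pow, ← IsLocalization.mul_mk'_eq_mk'_of_mul]

theorem isLocalizationAway_ZB (L : Type u) [CommRing L] [Algebra R[X] L]
    [IsLocalization (Submonoid.closure ({f : R[X] | f.coeff 0 = 1} ∪ {X})) L]
    [Algebra (ZB R) L] [IsScalarTower R[X] (ZB R) L] :
    IsLocalization.Away (algebraMap R[X] (ZB R) X) L := by
  let T := Submonoid.closure ({f : R[X] | f.coeff 0 = 1} ∪ {X})
  have hT : ∀ u ∈ T, ∃ f ∈ oneSub R, ∃ k : ℕ, u = f * X ^ k := by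
    intro u hu
    induction hu using Submonoid.closure_induction with
    | mem x hx =>
      rcases hx with hx | hx
      · exact ⟨x, hx, 0, by simp⟩
      · exact ⟨1, one_mem _, 1, by simp [Set.mem_singleton_iff.1 hx]⟩
    | one => exact ⟨1, one_mem _, 0, by simp⟩
    | mul x y _ _ hx hy =>
      obtain ⟨f, hf, k, rfl⟩ := hx
      obtain ⟨g, hg, l, rfl⟩ := hy
      exact ⟨f * g, mul_mem hf hg, k + l, by ring⟩
  refine IsLocalization.Away.mk _ ?_ (fun z => ?_) (fun a b hab => ?_)
  · rw [← IsScalarTower.algebraMap_apply]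
    exact IsLocalization.map_units L (⟨X, Submonoid.subset_closure (Or.inr rfl)⟩ : T)
  · obtain ⟨⟨p, u⟩, hpu⟩ := IsLocalization.surj T z
    obtain ⟨f, hf, k, hu⟩ := hT u u.2
    refine ⟨k, IsLocalization.mk' (ZB R) p (⟨f, hf⟩ : oneSub R), ?_⟩
    have hfu : IsUnit (algebraMap R[X] L f) :=
      IsLocalization.map_units L (⟨f, Submonoid.subset_closure (Or.inl hf)⟩ : T)
    apply hfu.mul_right_cancel
    rw [IsScalarTower.algebraMap_apply R[X] (ZB R) L f, ← map_mul,
      IsLocalization.mk'_spec (ZB R) p (⟨f, hf⟩ : oneSub R), ← IsScalarTower.algebraMap_apply,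
      ← IsScalarTower.algebraMap_apply, ← IsScalarTower.algebraMap_apply]
    simp only at hpu
    rw [← hpu, hu, map_mul, map_pow]
    ring
  · obtain ⟨p, s, rfl⟩ := IsLocalization.exists_mk'_eq (oneSub R) a
    obtain ⟨q, s', rfl⟩ := IsLocalization.exists_mk'_eq (oneSub R) b
    have h2 : algebraMap R[X] L (p * s') = algebraMap R[X] L (q * s) := by
      rw [IsScalarTower.algebraMap_apply R[X] (ZB R) L, IsScalarTower.algebraMap_apply R[X] (ZB R) L (q * s),
        map_mul (algebraMap R[X] (ZB R)) p, map_mul (algebraMap R[X] (ZB R)) q,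
        ← IsLocalization.mk'_spec (ZB R) p s, ← IsLocalization.mk'_spec (ZB R) q s']
      simp only [map_mul, hab]
      ring
    obtain ⟨u, hu⟩ := (IsLocalization.eq_iff_exists T L).1 h2
    obtain ⟨f, hf, k, hfk⟩ := hT u u.2
    refine ⟨k, ?_⟩
    have hu' := congrArg (algebraMap R[X] (ZB R)) hu
    rw [hfk] at hu'
    simp only [map_mul, map_pow] at hu'
    rw [← IsLocalization.mk'_spec (ZB R) p s, ← IsLocalization.mk'_spec (ZB R) q s'] at hu'
    have hunit : IsUnit (algebraMap R[X] (ZB R) f * algebraMap R[X] (ZB R) s * algebraMap R[X] (ZB R) s') :=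
      ((IsLocalization.map_units (ZB R) (⟨f, hf⟩ : oneSub R)).mul
        (IsLocalization.map_units (ZB R) s)).mul (IsLocalization.map_units (ZB R) s')
    apply hunit.mul_left_cancel
    linear_combination hu'

end Groth.Agent.CAlg9.Approx
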